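import Groth.Agent.KFlatLib.Scheme.PushCoprod
import Groth.Agent.QCoh.Support
import Groth.Agent.QCoh.Tilde
import Groth.Agent.QCoh.TensorUnit
import Groth.Prelude.Def_RelSpec2
import Mathlib.CategoryTheory.Abelian.Exact

/-!
# Direct images along affine morphisms commute with colimits of quasi-coherent modules
-/

set_option autoImplicit false
set_option backward.isDefEq.respectTransparency false
set_option backward.isDefEq.respectTransparency.types false

universe u

open CategoryTheory CategoryTheory.Limits AlgebraicGeometry TopologicalSpace Opposite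

namespace Groth.Agent.AModX

section Ring

variable {S : TopCat.{u}} (R : TopCat.Sheaf RingCat.{u} S)

theorem preservesColimitsOfShape_toSheaf (K : Type u) [SmallCategory K] :
    PreservesColimitsOfShape K (SheafOfModules.toSheaf.{u} R) := ⟨fun {F} => by
  let adj := PresheafOfModules.sheafificationAdjunction (𝟙 R.obj)
  haveI := adj.leftAdjoint_preservesColimits
  let G := F ⋙ SheafOfModules.forget R
  let e : F ≅ G ⋙ PresheafOfModules.sheafification (𝟙 R.obj) :=
    Functor.isoWhiskerLeft F (asIso adj.counit).symm
  haveI : PreservesColimitsOfShape K (presheafToSheaf (Opens.grothendieckTopology S) AddCommGrpCat.{u}) :=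
    (CategoryTheory.sheafificationAdjunction _ _).leftAdjoint_preservesColimits.preservesColimitsOfShape
  haveI h₁ : PreservesColimitsOfShape K (PresheafOfModules.sheafification (𝟙 R.obj) ⋙
      SheafOfModules.toSheaf R) :=
    preservesColimitsOfShape_of_natIso (PresheafOfModules.sheafificationCompToSheaf (𝟙 R.obj)).symm
  haveI : PreservesColimitsOfShape K (PresheafOfModules.sheafification (𝟙 R.obj)) :=
    adj.leftAdjoint_preservesColimits.preservesColimitsOfShape
  refine @preservesColimit_of_iso_diagram _ _ _ _ _ _ _ _ (SheafOfModules.toSheaf.{u} R) e.symm ?_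
  refine preservesColimit_of_preserves_colimit_cocone
    (isColimitOfPreserves (PresheafOfModules.sheafification (𝟙 R.obj)) (colimit.isColimit G)) ?_
  exact (isColimitOfPreserves (PresheafOfModules.sheafification (𝟙 R.obj) ⋙
      SheafOfModules.toSheaf R) (colimit.isColimit G) :)⟩

theorem reflectsIsomorphisms_toSheaf : (SheafOfModules.toSheaf.{u} R).ReflectsIsomorphisms := inferInstance

end Ring

variable {X S : Scheme.{u}} (f : X ⟶ S) [IsAffineHom f]

theorem epi_push {M N : X.Modules} (hM : Coh.IsQCoh M) (hN : Coh.IsQCoh N) (φ : M ⟶ N) [Epi φ] :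
    Epi ((Scheme.Modules.pushforward f).map φ) := by
  refine Preadditive.epi_of_cancel_zero _ fun {W} g hg => QCoh.hom_ext_app fun U y => ?_
  refine TopCat.Sheaf.eq_of_locally_eq' ⟨W.presheaf, W.isSheaf⟩
    (fun V : {V : S.affineOpens // V.1 ≤ U} => V.1.1) U (fun V => homOfLE V.2) (fun z hz => ?_) _ _ fun V => ?_
  · obtain ⟨_, ⟨V, hV, rfl⟩, hzV, hVU⟩ := S.isBasis_affineOpens.exists_subset_of_mem_open hz U.isOpen
    exact Opens.mem_iSup.2 ⟨⟨⟨V, hV⟩, hVU⟩, hzV⟩
  · obtain ⟨m, hm⟩ := QCoh.app_surjective_of_epi hM hN φ (V.1.2.preimage f)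
      (((Scheme.Modules.pushforward f).obj N).presheaf.map (homOfLE V.2).op y)
    refine ((QCoh.map_app_comm g (homOfLE V.2) y).symm.trans ?_).trans (map_zero _).symm
    rw [← hm]
    exact congr(($hg).app V.1.1 m)

theorem preservesColimit_push {J : Type u} [SmallCategory J] (D : J ⥤ X.Modules)
    (hD : ∀ j, Coh.IsQCoh (D.obj j)) : PreservesColimit D (Scheme.Modules.pushforward f) := by
  let G := Scheme.Modules.pushforward f
  have := (Scheme.Modules.pullbackPushforwardAdjunction f).right_adjoint_additive
  have := (Scheme.Modules.pullbackPushforwardAdjunction f).isRightAdjoint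
  have hc : ∀ (ι : Type u), PreservesColimitsOfShape (Discrete ι) G := fun ι =>
    KFlatLib.preservesColimitsOfShape_push_discrete f
  let Ar := Σ p : J × J, (p.1 ⟶ p.2)
  let dom : Ar → X.Modules := fun a => D.obj a.1.1
  let P := ∐ fun j => D.obj j
  let Q := ∐ dom
  let δ : Q ⟶ P := Sigma.desc fun a =>
    D.map a.2 ≫ Sigma.ι (fun j => D.obj j) a.1.2 - Sigma.ι (fun j => D.obj j) a.1.1
  let q : P ⟶ colimit D := Sigma.desc fun j => colimit.ι D j
  have w : δ ≫ q = 0 := by
    ext a
    simp [δ, q]
  have hq : IsColimit (CokernelCofork.ofπ q w) := by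
    refine CokernelCofork.IsColimit.ofπ' q w fun {Z} g hg => ?_
    let s : Cocone D :=
      { pt := Z
        ι :=
          { app := fun j => Sigma.ι (fun j => D.obj j) j ≫ g
            naturality := fun i j a => by
              have e := congrArg (fun m => Sigma.ι dom ⟨(i, j), a⟩ ≫ m) hg
              simp only [δ, dom, Sigma.ι_desc_assoc, Preadditive.sub_comp, comp_zero, sub_eq_zero,
                Category.assoc] at e
              exact e.trans (Category.comp_id _).symm } }
    exact ⟨colimit.desc D s, Sigma.hom_ext _ _ fun j => by simp [q, s]⟩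
  have hepi : Epi q := ⟨fun a b e => colimit.hom_ext fun j => by
    have := congrArg (fun m => Sigma.ι (fun j => D.obj j) j ≫ m) e
    simpa [q] using this⟩
  have hex : (ShortComplex.mk δ q w).Exact := ShortComplex.exact_of_g_is_cokernel _ hq
  have hQq : Coh.IsQCoh Q := QCoh.isQCoh_colimit _ fun a => hD _
  have hPq : Coh.IsQCoh P := QCoh.isQCoh_colimit _ fun j => hD _
  have hCq : Coh.IsQCoh (colimit D) := QCoh.isQCoh_colimit _ hD
  let e : Q ⟶ kernel q := kernel.lift q δ w
  have he : Epi e := hex.epi_kernelLift
  have hGe : Epi (G.map e) := epi_push f hQq (QCoh.isQCoh_kernel hPq hCq q) e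
  have hGq : Epi (G.map q) := epi_push f hPq hCq q
  have hexG : ((ShortComplex.mk δ q w).map G).Exact := by
    rw [ShortComplex.exact_iff_epi_kernel_lift]
    change Epi (kernel.lift (G.map q) (G.map δ) _)
    have : kernel.lift (G.map q) (G.map δ) (by rw [← G.map_comp, w, G.map_zero]) =
        G.map e ≫ kernelComparison q G := by
      rw [← cancel_mono (kernel.ι (G.map q)), kernel.lift_ι, Category.assoc, kernelComparison_comp_ι,
        ← G.map_comp, kernel.lift_ι]
    rw [this]
    infer_instance
  haveI : Epi ((ShortComplex.mk δ q w).map G).g := hGq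
  have hGc := hexG.gIsCokernel
  have hGP := isColimitOfHasCoproductOfPreservesColimit G (fun j => D.obj j)
  have hGQ := isColimitOfHasCoproductOfPreservesColimit G dom
  let k : ∀ s : Cocone (D ⋙ G), G.obj P ⟶ s.pt := fun s =>
    Cofan.IsColimit.desc hGP fun j => s.ι.app j
  have hk : ∀ (s : Cocone (D ⋙ G)) j, G.map (Sigma.ι (fun j => D.obj j) j) ≫ k s = s.ι.app j :=
    fun s j => Cofan.IsColimit.fac hGP _ j
  have hk0 : ∀ s : Cocone (D ⋙ G), G.map δ ≫ k s = 0 := fun s => by
    refine Cofan.IsColimit.hom_ext hGQ _ _ fun a => ?_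
    change G.map (Sigma.ι dom a) ≫ G.map δ ≫ k s = G.map (Sigma.ι dom a) ≫ 0
    rw [← G.map_comp_assoc, Sigma.ι_desc, G.map_sub, Preadditive.sub_comp, G.map_comp, Category.assoc, hk, hk,
      comp_zero, sub_eq_zero]
    exact s.w a.2
  refine preservesColimit_of_preserves_colimit_cocone (colimit.isColimit D)
    { desc := fun s => hGc.desc (CokernelCofork.ofπ (k s) (hk0 s))
      fac := fun s j => ?_
      uniq := fun s m hm => ?_ }
  · have e1 : colimit.ι D j = Sigma.ι (fun j => D.obj j) j ≫ q := (Sigma.ι_desc _ _).symm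
    change G.map (colimit.ι D j) ≫ _ = _
    rw [e1, G.map_comp, Category.assoc]
    exact (congrArg (_ ≫ ·) (hGc.fac (CokernelCofork.ofπ (k s) (hk0 s)) WalkingParallelPair.one)).trans (hk s j)
  · refine (cancel_epi (G.map q)).1 ((Cofan.IsColimit.hom_ext hGP _ _ fun j => ?_).trans
      (hGc.fac (CokernelCofork.ofπ (k s) (hk0 s)) WalkingParallelPair.one).symm)
    change G.map _ ≫ G.map q ≫ m = G.map _ ≫ k s
    rw [← G.map_comp_assoc, hk, Sigma.ι_desc]
    exact hm j

/-- The direct image with its module structure commutes with colimits of quasi-coherent modules. -/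
theorem preservesColimit_dirImg {J : Type u} [SmallCategory J] (D : J ⥤ X.Modules)
    (hD : ∀ j, Coh.IsQCoh (D.obj j)) : PreservesColimit D (AMod.dirImg f) := by
  let T := SheafOfModules.toSheaf.{u} (AMod.ringSheaf (RelSpec.QCAlg.directImage f))
  haveI := preservesColimit_push f D hD
  haveI : PreservesColimit D (Scheme.Modules.pushforward f ⋙ KFlatLib.toAb S) := inferInstance
  haveI : PreservesColimit D (AMod.dirImg f ⋙ T) :=
    (inferInstance : PreservesColimit D (Scheme.Modules.pushforward f ⋙ KFlatLib.toAb S))
  haveI : PreservesColimitsOfShape J T := preservesColimitsOfShape_toSheaf _ J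
  haveI : ReflectsColimit (D ⋙ AMod.dirImg f) T := reflectsColimit_of_reflectsIsomorphisms _ _
  exact preservesColimit_of_reflects_of_preserves (AMod.dirImg f) T

/-- The direct image commutes with colimits of quasi-coherent modules, for finite-universe index categories. -/
theorem preservesColimit_dirImg' {J : Type} [SmallCategory J] (D : J ⥤ X.Modules)
    (hD : ∀ j, Coh.IsQCoh (D.obj j)) : PreservesColimit D (AMod.dirImg f) := by
  let e : J ≌ AsSmall.{u} J := AsSmall.equiv
  haveI : PreservesColimit (e.symm.functor ⋙ D) (AMod.dirImg f) :=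
    preservesColimit_dirImg f (e.inverse ⋙ D) fun j => hD _
  exact preservesColimit_of_preserves_colimit_cocone (colimit.isColimit D)
    (IsColimit.ofWhiskerEquivalence e.symm (isColimitOfPreserves (AMod.dirImg f)
      ((colimit.isColimit D).whiskerEquivalence e.symm)))

end Groth.Agent.AModX
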