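import Groth.Agent.AModX.Exact
import Groth.Agent.AModX.Colim
import Groth.Agent.QCoh.PullbackBC
import Groth.Agent.QCoh.Pullback
import Mathlib.RingTheory.IsTensorProduct
import Mathlib.Algebra.Category.ModuleCat.Sheaf.Abelian

/-!
# Quasi-coherent modules over the direct-image algebra of an affine morphism are direct images
-/

set_option autoImplicit false
set_option backward.isDefEq.respectTransparency false
set_option backward.isDefEq.respectTransparency.types false

universe u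

open CategoryTheory CategoryTheory.Limits AlgebraicGeometry TopologicalSpace Opposite

namespace Groth.Agent.AModX

variable {X S : Scheme.{u}} {f : X ⟶ S} [IsAffineHom f] (M : AMod (RelSpec.QCAlg.directImage f))

/-- Sections of a module over `f_* O_X`. -/
abbrev MSec (U : S.Opens) : Type u := (M.val.obj (op U) : Type u)

noncomputable instance (U : S.Opens) : Module Γ(X, f ⁻¹ᵁ U) (MSec M U) :=
  inferInstanceAs (Module ((AMod.ringSheaf (RelSpec.QCAlg.directImage f)).obj.obj (op U)) (MSec M U))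

/-- The underlying `O_S`-module. -/
noncomputable abbrev OS : S.Modules := (AMod.toOS (RelSpec.QCAlg.directImage f)).obj M

/-- Restriction of sections. -/
noncomputable def mres {U V : S.Opens} (h : V ≤ U) : MSec M U →+ MSec M V :=
  ((OS M).presheaf.map (homOfLE h).op).hom

lemma mres_smul {U V : S.Opens} (h : V ≤ U) (r : Γ(X, f ⁻¹ᵁ U)) (x : MSec M U) :
    mres M h (r • x) = resR (f.preimage_mono h) r • mres M h x :=
  M.val.map_smul (homOfLE h).op r x

/-- The pullback of the underlying module. -/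
noncomputable abbrev P : X.Modules := (Scheme.Modules.pullback f).obj (OS M)

/-- The unit on sections over an open. -/
noncomputable def η (U : S.Opens) : MSec M U →+ Γ(P M, f ⁻¹ᵁ U) :=
  (((Scheme.Modules.pullbackPushforwardAdjunction f).unit.app (OS M)).app U).hom

lemma η_res {U V : S.Opens} (h : V ≤ U) (x : MSec M U) :
    η M V (mres M h x) = res (P M) (f.preimage_mono h) (η M U x) :=
  QCoh.map_app_comm ((Scheme.Modules.pullbackPushforwardAdjunction f).unit.app (OS M)) (homOfLE h) x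

variable (hM : Coh.IsQCoh (OS M))
include hM

theorem exists_ψ (U : S.affineOpens) :
    ∃ φ : Γ(P M, f ⁻¹ᵁ U.1) →+ MSec M U.1,
      (∀ (r : Γ(X, f ⁻¹ᵁ U.1)) x, φ (r • x) = r • φ x) ∧ (∀ m, φ (η M U.1 m) = m) ∧
      ∀ (p : Γ(P M, f ⁻¹ᵁ U.1) → Prop), (∀ m, p (η M U.1 m)) → p 0 →
        (∀ (r : Γ(X, f ⁻¹ᵁ U.1)) x, p x → p (r • x)) → (∀ x y, p x → p y → p (x + y)) → ∀ x, p x := by
  let A := Γ(S, U.1)
  let B := Γ(X, f ⁻¹ᵁ U.1)
  letI : Algebra A B := (f.appLE U.1 (f ⁻¹ᵁ U.1) le_rfl).hom.toAlgebra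
  letI : Module A Γ(P M, f ⁻¹ᵁ U.1) := Module.compHom _ (f.appLE U.1 (f ⁻¹ᵁ U.1) le_rfl).hom
  haveI : IsScalarTower A B Γ(P M, f ⁻¹ᵁ U.1) := .of_algebraMap_smul fun _ _ => rfl
  letI : Module A (MSec M U.1) := Module.compHom _ (f.appLE U.1 (f ⁻¹ᵁ U.1) le_rfl).hom
  haveI : IsScalarTower A B (MSec M U.1) := .of_algebraMap_smul fun _ _ => rfl
  let l : Γ(OS M, U.1) →ₗ[A] Γ(P M, f ⁻¹ᵁ U.1) :=
    { toFun := QCoh.pullSec f (OS M) le_rfl
      map_add' := QCoh.pullSec_add f (OS M) le_rfl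
      map_smul' := QCoh.pullSec_smul f (OS M) le_rfl }
  have hl : IsBaseChange B l :=
    QCoh.isBaseChange_pullback U.2 f (U.2.preimage f) hM le_rfl (fun _ => rfl) l fun _ => rfl
  have hη : ∀ m, η M U.1 m = l m := fun m => (QCoh.map_id' _ _).symm
  let g : Γ(OS M, U.1) →ₗ[A] MSec M U.1 :=
    { toFun := fun m => (m : MSec M U.1)
      map_add' := fun _ _ => rfl
      map_smul' := fun r m => by
        show _ = f.appLE U.1 (f ⁻¹ᵁ U.1) le_rfl r • (show MSec M U.1 from m)
        rw [Scheme.Hom.appLE_eq_app]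
        rfl }
  refine ⟨(hl.lift g).toAddMonoidHom, fun r x => map_smul (hl.lift g) r x, fun m => ?_,
    fun p h₁ h₀ h₂ h₃ x => ?_⟩
  · show hl.lift g (η M U.1 m) = m
    rw [hη]
    exact hl.lift_eq g m
  · induction x using hl.inductionOn with
    | zero => exact h₀
    | tmul m => exact hη m ▸ h₁ m
    | smul r x hx => exact h₂ r x hx
    | add x y hx hy => exact h₃ x y hx hy

/-- The counit on an affine open. -/
noncomputable def ψ (U : S.affineOpens) : Γ(P M, f ⁻¹ᵁ U.1) →+ MSec M U.1 := (exists_ψ M hM U).choose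

lemma ψ_smul (U : S.affineOpens) (r : Γ(X, f ⁻¹ᵁ U.1)) (x : Γ(P M, f ⁻¹ᵁ U.1)) :
    ψ M hM U (r • x) = r • ψ M hM U x := (exists_ψ M hM U).choose_spec.1 r x

lemma ψ_η (U : S.affineOpens) (m : MSec M U.1) : ψ M hM U (η M U.1 m) = m :=
  (exists_ψ M hM U).choose_spec.2.1 m

lemma ψ_res {U V : S.affineOpens} (h : V.1 ≤ U.1) (x : Γ(P M, f ⁻¹ᵁ U.1)) :
    ψ M hM V (res (P M) (f.preimage_mono h) x) = mres M h (ψ M hM U x) := by
  refine (exists_ψ M hM U).choose_spec.2.2
    (fun x => ψ M hM V (res (P M) (f.preimage_mono h) x) = mres M h (ψ M hM U x)) (fun m => ?_) ?_ ?_ ?_ x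
  · rw [ψ_η, ← η_res, ψ_η]
  · simp
  · intro r x hx
    rw [res_smul, ψ_smul, ψ_smul, mres_smul, hx]
  · intro x y hx hy
    simp only [map_add, hx, hy]

omit hM in
lemma isBasis_affine : Opens.IsBasis (Set.range fun U : S.affineOpens => U.1) := by
  have : Set.range (fun U : S.affineOpens => U.1) = S.affineOpens := Subtype.range_coe
  rw [this]
  exact S.isBasis_affineOpens

theorem exists_counit : ∃ π : (AMod.dirImg f).obj (P M) ⟶ M, ∀ (U : S.affineOpens) (x : Γ(P M, f ⁻¹ᵁ U.1)),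
    π.val.app (op U.1) x = ψ M hM U x := by
  let F := ((AMod.dirImg f).obj (P M)).val.presheaf
  let F' : TopCat.Sheaf AddCommGrpCat.{u} S := ⟨M.val.presheaf, M.isSheaf⟩
  let α : (inducedFunctor fun U : S.affineOpens => U.1).op ⋙ F ⟶
      (inducedFunctor fun U : S.affineOpens => U.1).op ⋙ F'.1 :=
    { app := fun U => AddCommGrpCat.ofHom (ψ M hM U.unop)
      naturality := fun U V i => by
        ext x
        exact ψ_res M hM i.unop.hom.le x }
  let φ := TopCat.Sheaf.restrictHomEquivHom F F' isBasis_affine α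
  have hφ : ∀ (U : S.affineOpens) (x : Γ(P M, f ⁻¹ᵁ U.1)), φ.app (op U.1) x = ψ M hM U x := fun U x =>
    congr($(TopCat.Sheaf.extend_hom_app F F' isBasis_affine α U) x)
  refine ⟨⟨PresheafOfModules.homMk φ fun V r x => ?_⟩, hφ⟩
  obtain ⟨V⟩ := V
  refine amod_eq_of_locally M _ _ fun p hp => ?_
  obtain ⟨_, ⟨U, hU, rfl⟩, hpU, hUV⟩ := S.isBasis_affineOpens.exists_subset_of_mem_open hp V.isOpen
  have hUV' : U ≤ V := hUV
  refine ⟨U, hUV, hpU, ?_⟩
  show mres M hUV' (φ.app (op V) (r • (x : Γ(P M, f ⁻¹ᵁ V)))) = mres M hUV' (_ • φ.app (op V) x)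
  have nat : ∀ y : Γ(P M, f ⁻¹ᵁ V), mres M hUV' (φ.app (op V) y) =
      ψ M hM ⟨U, hU⟩ (res (P M) (f.preimage_mono hUV') y) := fun y =>
    (congr($(φ.naturality (homOfLE hUV').op) y)).symm.trans (hφ ⟨U, hU⟩ _)
  refine (nat _).trans ?_
  rw [res_smul, ψ_smul, ← nat]
  exact (mres_smul M hUV' r _).symm

theorem exists_epi_dirImg :
    ∃ (F : X.Modules) (π : (AMod.dirImg f).obj F ⟶ M), Coh.IsQCoh F ∧ Epi π := by
  obtain ⟨π, hπ⟩ := exists_counit M hM
  refine ⟨P M, π, QCoh.isQCoh_pullback f hM, ⟨fun {Z} g g' e => ?_⟩⟩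
  refine SheafOfModules.Hom.ext (PresheafOfModules.hom_ext fun V => ?_)
  ext y
  refine amod_eq_of_locally Z _ _ fun p hp => ?_
  obtain ⟨_, ⟨U, hU, rfl⟩, hpU, hUV⟩ := S.isBasis_affineOpens.exists_subset_of_mem_open
    (show p ∈ (V.unop : Set S) from hp) V.unop.isOpen
  have hUV' : U ≤ V.unop := hUV
  refine ⟨U, hUV, hpU, ?_⟩
  rw [← PresheafOfModules.naturality_apply g.val (homOfLE hUV').op y,
    ← PresheafOfModules.naturality_apply g'.val (homOfLE hUV').op y]
  have hx : π.val.app (op U) (η M U (M.val.map (homOfLE hUV').op y)) = M.val.map (homOfLE hUV').op y :=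
    (hπ ⟨U, hU⟩ _).trans (ψ_η M hM ⟨U, hU⟩ _)
  erw [← hx]
  exact congr($(congrArg (fun m : (AMod.dirImg f).obj (P M) ⟶ Z => m.val.app (op U)) e).hom _)

theorem exists_iso_dirImg : ∃ F : X.Modules, Coh.IsQCoh F ∧ Nonempty ((AMod.dirImg f).obj F ≅ M) := by
  let T := AMod.toOS (RelSpec.QCAlg.directImage f)
  let D := AMod.dirImg f
  have hTD : ∀ {F : X.Modules}, Coh.IsQCoh F → Coh.IsQCoh (T.obj (D.obj F)) := fun h =>
    QCoh.isQCoh_pushforward f h
  obtain ⟨F₁, π, h₁, hπ⟩ := exists_epi_dirImg M hM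
  haveI : PreservesFiniteLimits T :=
    haveI : PreservesFiniteLimits (T ⋙ SheafOfModules.toSheaf.{u} S.ringCatSheaf) :=
      inferInstanceAs (PreservesFiniteLimits
        (SheafOfModules.toSheaf.{u} (AMod.ringSheaf (RelSpec.QCAlg.directImage f))))
    haveI := AModX.reflectsIsomorphisms_toSheaf (S := (S : TopCat.{u})) S.ringCatSheaf
    haveI : ReflectsFiniteLimits (SheafOfModules.toSheaf.{u} S.ringCatSheaf) :=
      ⟨fun _ _ _ => reflectsLimitsOfShape_of_reflectsIsomorphisms⟩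
    preservesFiniteLimits_of_reflects_of_preserves T (SheafOfModules.toSheaf.{u} S.ringCatSheaf)
  have hK : Coh.IsQCoh (T.obj (kernel π)) :=
    (QCoh.isQCoh_iff_iso (PreservesKernel.iso T π)).2 (QCoh.isQCoh_kernel (hTD h₁) hM (T.map π))
  obtain ⟨F₂, π₂, h₂, hπ₂⟩ := exists_epi_dirImg (kernel π) hK
  obtain ⟨v, hv⟩ := (dirImg_map_bijective (G := F₁) h₂).2 (π₂ ≫ kernel.ι π)
  refine ⟨cokernel v, QCoh.isQCoh_cokernel h₂ h₁ v, ⟨?_⟩⟩
  have hp : PreservesColimit (parallelPair v 0) D :=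
    preservesColimit_dirImg' f (parallelPair v 0) (by rintro (_ | _) <;> assumption)
  have w : D.map v ≫ π = 0 := by rw [hv, Category.assoc, kernel.condition, comp_zero]
  have hex : (ShortComplex.mk (D.map v) π w).Exact := by
    rw [ShortComplex.exact_iff_epi_kernel_lift]
    change Epi (kernel.lift π (D.map v) w)
    have : kernel.lift π (D.map v) w = π₂ := by rw [← cancel_mono (kernel.ι π), kernel.lift_ι, hv]
    rw [this]
    exact hπ₂
  haveI : Epi (ShortComplex.mk (D.map v) π w).g := hπ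
  haveI : D.PreservesZeroMorphisms := ⟨fun _ _ => rfl⟩
  exact PreservesCokernel.iso D v ≪≫ (cokernelIsCokernel (D.map v)).coconePointUniqueUpToIso hex.gIsCokernel

end Groth.Agent.AModX
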