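import Groth.Agent.AModX.Hom
import Groth.Agent.RelSpecX.AffHom
import Groth.Agent.QCoh.CechStd

/-!
Exactness and conservativity of direct images along affine morphisms.
-/

universe u

open CategoryTheory CategoryTheory.Limits AlgebraicGeometry TopologicalSpace Opposite

namespace Groth.Agent.AModX

variable {X S : Scheme.{u}} {f : X ⟶ S} [IsAffineHom f] {F G : X.Modules}

lemma amod_eq_of_locally {B : RelSpec.QCAlg S} (Z : AMod B) {V : S.Opens}
    (x y : Z.val.obj (op V))
    (h : ∀ p ∈ V, ∃ (W : S.Opens) (i : W ≤ V), p ∈ W ∧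
      Z.val.map (homOfLE i).op x = Z.val.map (homOfLE i).op y) : x = y := by
  choose W i hp hW using fun p : V => h p.1 p.2
  exact TopCat.Sheaf.eq_of_locally_eq' ⟨Z.val.presheaf, Z.isSheaf⟩ W V (fun p => homOfLE (i p))
    (fun p hp' => Opens.mem_iSup.2 ⟨⟨p, hp'⟩, hp ⟨p, hp'⟩⟩) x y hW

lemma dirImg_map_epi (hF : Coh.IsQCoh F) (hG : Coh.IsQCoh G) (v : F ⟶ G) [Epi v] :
    Epi ((AMod.dirImg f).map v) := by
  let T := ShortComplex.mk (kernel.ι v) v (kernel.condition v)
  have hT : T.ShortExact := { exact := T.exact_of_f_is_kernel (kernelIsKernel v) }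
  have hsurj : ∀ U : S.affineOpens, Function.Surjective (v.app (f ⁻¹ᵁ U.1)) := fun U =>
    QCoh.app_surjective_of_shortExact hT (QCoh.isQCoh_kernel hF hG v) (U.2.preimage f)
  constructor
  intro Z g g' e
  refine SheafOfModules.Hom.ext (PresheafOfModules.hom_ext fun V => ?_)
  ext y
  refine amod_eq_of_locally Z _ _ fun p hp => ?_
  obtain ⟨_, ⟨U, hU, rfl⟩, hpU, hUV⟩ := S.isBasis_affineOpens.exists_subset_of_mem_open
    (show p ∈ (V.unop : Set S) from hp) V.unop.isOpen
  refine ⟨U, hUV, hpU, ?_⟩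
  have hUV' : U ≤ V.unop := hUV
  rw [← PresheafOfModules.naturality_apply g.val (homOfLE hUV').op y,
    ← PresheafOfModules.naturality_apply g'.val (homOfLE hUV').op y]
  obtain ⟨x, hx⟩ := hsurj ⟨U, hU⟩ (((AMod.dirImg f).obj G).val.map (homOfLE hUV').op y)
  erw [← hx]
  have e2 : ((AMod.dirImg f).map v).val.app (op U) ≫ g.val.app (op U) =
      ((AMod.dirImg f).map v).val.app (op U) ≫ g'.val.app (op U) :=
    congrArg (fun m : (AMod.dirImg f).obj F ⟶ Z => m.val.app (op U)) e
  exact congr($(e2).hom x)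

lemma isIso_of_dirImg {v : F ⟶ G} [IsIso ((Scheme.Modules.pushforward f).map v)]
    (hF : Coh.IsQCoh F) (hG : Coh.IsQCoh G) : IsIso v := by
  have : IsIso ((AMod.dirImg f).map v) := by
    have h1 : ∀ V : S.Opens, Function.Bijective (((Scheme.Modules.pushforward f).map v).app V) := by
      intro V
      have := Scheme.Modules.Hom.isIso_iff_isIso_app.mp
        (inferInstance : IsIso ((Scheme.Modules.pushforward f).map v)) V
      exact ConcreteCategory.bijective_of_isIso _
    have : IsIso ((SheafOfModules.forget _).map ((AMod.dirImg f).map v)) := by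
      refine (isIso_iff_of_reflects_iso _ (PresheafOfModules.toPresheaf _)).mp ?_
      rw [NatTrans.isIso_iff_isIso_app]
      intro V
      rw [ConcreteCategory.isIso_iff_bijective]
      exact h1 V.unop
    exact isIso_of_reflects_iso _ (SheafOfModules.forget _)
  obtain ⟨w, hw⟩ := (dirImg_map_bijective (f := f) hG).2 (inv ((AMod.dirImg f).map v))
  refine ⟨w, (dirImg_map_bijective (f := f) hF).1 ?_, (dirImg_map_bijective (f := f) hG).1 ?_⟩
  · rw [Functor.map_comp, hw, IsIso.hom_inv_id, (AMod.dirImg f).map_id]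
  · rw [Functor.map_comp, hw, IsIso.inv_hom_id, (AMod.dirImg f).map_id]

end Groth.Agent.AModX
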