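import Groth.Agent.AModX.Res
import Groth.Agent.SiteBase.SecGen
import Groth.Agent.QCoh.ExtendFT
import Groth.Agent.QCoh.FT
import Groth.Prelude.Def_RelSpec2

/-!
# Finite type and direct images along affine morphisms
-/

set_option autoImplicit false
set_option backward.isDefEq.respectTransparency false
set_option backward.isDefEq.respectTransparency.types false

universe u

open CategoryTheory CategoryTheory.Limits AlgebraicGeometry TopologicalSpace Opposite
open Groth.Agent.QCoh Groth.Agent.ModTensor Groth.Agent.SecGen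

namespace Groth.Agent.AModX

variable {X S : Scheme.{u}} {F : X.Modules}

/-- Generators on an affine open generate on every smaller affine open. -/
theorem mem_span_restrict (hF : Coh.IsQCoh F) {V W : X.Opens} (hV : IsAffineOpen V) (hW : IsAffineOpen W)
    (h : W ≤ V) {T : Set Γ(F, V)} (hT : ⊤ ≤ Submodule.span Γ(X, V) T) (x : Γ(F, W)) :
    x ∈ Submodule.span Γ(X, W) (res F h '' T) := by
  refine QCoh.mem_span_of_locally hF hW _ x fun p hp => ?_
  obtain ⟨g, hg, hpg⟩ := hV.exists_basicOpen_le ⟨p, hp⟩ (h hp)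
  refine ⟨X.basicOpen g, hg, hpg, ?_⟩
  obtain ⟨n, t, ht⟩ := QCoh.exists_pow_smul_eq_map hF hV g (res F hg x)
  have hmem : res F (X.basicOpen_le g) t ∈
      Submodule.span Γ(X, X.basicOpen g) (res F (X.basicOpen_le g) '' T) :=
    QCoh.rs_mem_span (X.basicOpen_le g) (hT trivial)
  have ht' : res F (X.basicOpen_le g) t = resR (X.basicOpen_le g) g ^ n • res F hg x := ht
  have hu := (isUnit_resR (X.basicOpen_le g) g le_rfl).pow n
  rw [ht'] at hmem
  have := (Submodule.smul_mem_iff_of_isUnit _ hu).1 hmem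
  refine Submodule.span_mono ?_ this
  rintro _ ⟨a, ha, rfl⟩
  exact ⟨res F h a, ⟨a, ha, rfl⟩, res_res h hg a⟩

variable (f : X ⟶ S) [IsAffineHom f]

/-- The direct image algebra as a sheaf of commutative rings. -/
noncomputable abbrev dirO : Sheaf (Opens.grothendieckTopology S) CommRingCat.{u} :=
  ⟨(RelSpec.QCAlg.directImage f).presheaf, (RelSpec.QCAlg.directImage f).isSheaf⟩

theorem isFT_iff (hF : Coh.IsQCoh F) :
    SheafOfModules.IsFiniteType.{u} (R := X.ringCatSheaf) F ↔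
      SheafOfModules.IsFiniteType.{u} (R := AMod.ringSheaf (RelSpec.QCAlg.directImage f))
        ((AMod.dirImg f).obj F) := by
  let M : ModSite.Mod (dirO f) := (AMod.dirImg f).obj F
  constructor
  · intro hft
    refine isFiniteType_of_gens (O := dirO f) M fun W => ?_
    refine ⟨Sieve.generate (fun V (_ : V ⟶ W) => IsAffineOpen V), ?_, ?_⟩
    · intro x hx
      obtain ⟨_, ⟨V, hV, rfl⟩, hxV, hVW⟩ := S.isBasis_affineOpens.exists_subset_of_mem_open hx W.isOpen
      exact ⟨V, homOfLE hVW, ⟨V, 𝟙 V, homOfLE hVW, hV, Category.id_comp _⟩, hxV⟩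
    rintro V g ⟨V', a, b, hV', rfl⟩
    suffices h : ∃ (n : ℕ) (s : Fin n → ((fg (dirO f)).obj M).obj (op V')), Gens M s by
      obtain ⟨n, s, hs⟩ := h
      exact ⟨n, _, hs.pull a⟩
    have hfin := QCoh.finite_of_isFT hF hft (hV'.preimage f)
    obtain ⟨n, s, hs⟩ := hfin.exists_fin (R := Γ(X, f ⁻¹ᵁ V')) (M := Γ(F, f ⁻¹ᵁ V'))
    refine ⟨n, s, fun W' i t => ?_⟩
    refine ⟨Sieve.generate (fun V (_ : V ⟶ W') => IsAffineOpen V), ?_, ?_⟩
    · intro x hx
      obtain ⟨_, ⟨P, hP, rfl⟩, hxP, hPW⟩ := S.isBasis_affineOpens.exists_subset_of_mem_open hx W'.isOpen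
      exact ⟨P, homOfLE hPW, ⟨P, 𝟙 P, homOfLE hPW, hP, Category.id_comp _⟩, hxP⟩
    rintro P j ⟨P', a', b', hP', rfl⟩
    have h0 := mem_span_restrict hF (hV'.preimage f) (hP'.preimage f)
      (f.preimage_mono (b' ≫ i).le) (T := Set.range s) hs.ge (res F (f.preimage_mono b'.le) t)
    rw [← Set.range_comp] at h0
    obtain ⟨c, hc⟩ := (Submodule.mem_span_range_iff_exists_fun _).1 h0
    refine ⟨fun k => resR (f.preimage_mono a'.le) (c k), ?_⟩
    have e := congrArg (res F (f.preimage_mono a'.le)) hc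
    simp only [map_sum, res_smul, Function.comp_apply, res_res] at e
    exact e.symm
  · intro hft
    have key : ∀ x : S, ∃ V : S.affineOpens, x ∈ V.1 ∧ Module.Finite Γ(X, f ⁻¹ᵁ V.1) Γ(F, f ⁻¹ᵁ V.1) := by
      intro x
      obtain ⟨Sv, hSv, hgen⟩ := locally_exists_gens (O := dirO f) M (⊤ : S.Opens)
      obtain ⟨V₀, i₀, hi₀, hxV₀⟩ := hSv x trivial
      obtain ⟨_, ⟨V, hV, rfl⟩, hxV, hVV₀⟩ := S.isBasis_affineOpens.exists_subset_of_mem_open hxV₀ V₀.isOpen
      obtain ⟨n, s, hs⟩ := hgen (homOfLE hVV₀ ≫ i₀) (Sv.downward_closed hi₀ _)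
      refine ⟨⟨V, hV⟩, hxV, ⟨⟨(Set.finite_range (s : Fin n → Γ(F, f ⁻¹ᵁ V))).toFinset, ?_⟩⟩⟩
      rw [Set.Finite.coe_toFinset, eq_top_iff]
      rintro t -
      refine QCoh.mem_span_of_locally hF (hV.preimage f) _ t fun p hp => ?_
      obtain ⟨T, hT, hTs⟩ := hs (𝟙 V) t
      obtain ⟨P, j, hj, hpP⟩ := hT (f p) hp
      obtain ⟨c, hc⟩ := hTs j hj
      refine ⟨f ⁻¹ᵁ P, f.preimage_mono j.le, hpP, ?_⟩
      have e : res F (f.preimage_mono j.le) t =
          ∑ k, (show Γ(X, f ⁻¹ᵁ P) from c k) • res F (f.preimage_mono j.le) (s k) := hc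
      refine (congrArg (· ∈ _) e).mpr ?_
      exact Submodule.sum_mem _ fun k _ => Submodule.smul_mem _ _ (Submodule.subset_span ⟨s k, ⟨k, rfl⟩, rfl⟩)
    choose V hxV hfin using key
    refine QCoh.isFT_of_finite hF (fun x : S => f ⁻¹ᵁ (V x).1) ?_ (fun x => (V x).2.preimage f) hfin
    exact top_le_iff.1 fun p _ => Opens.mem_iSup.2 ⟨f p, hxV (f p)⟩

end Groth.Agent.AModX
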