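import Groth.Agent.QCoh.Qcqs

/-!
Restriction of sections of modules, and the basis of basic opens in preimages of affines.
-/

universe u

open CategoryTheory CategoryTheory.Limits AlgebraicGeometry TopologicalSpace Opposite

namespace Groth.Agent.AModX

variable {X S : Scheme.{u}} {M N : X.Modules}

/-- Restriction of sections of a module. -/
noncomputable def res (M : X.Modules) {V W : X.Opens} (h : W ≤ V) : Γ(M, V) →+ Γ(M, W) :=
  (M.presheaf.map (homOfLE h).op).hom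

/-- Restriction of functions. -/
noncomputable def resR {V W : X.Opens} (h : W ≤ V) : Γ(X, V) →+* Γ(X, W) :=
  (X.presheaf.map (homOfLE h).op).hom

lemma res_smul {V W : X.Opens} (h : W ≤ V) (r : Γ(X, V)) (x : Γ(M, V)) :
    res M h (r • x) = resR h r • res M h x := M.val.map_smul (homOfLE h).op r x

lemma res_res {V W Z : X.Opens} (h : W ≤ V) (h' : Z ≤ W) (x : Γ(M, V)) :
    res M h' (res M h x) = res M (h'.trans h) x :=
  QCoh.map_map (homOfLE h') (homOfLE h) x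

lemma resR_resR {V W Z : X.Opens} (h : W ≤ V) (h' : Z ≤ W) (x : Γ(X, V)) :
    resR h' (resR h x) = resR (h'.trans h) x :=
  QCoh.ringMap_map (homOfLE h') (homOfLE h) x

@[simp] lemma res_self {V : X.Opens} (x : Γ(M, V)) : res M (le_refl V) x = x :=
  QCoh.map_id' _ x

@[simp] lemma resR_self {V : X.Opens} (x : Γ(X, V)) : resR (le_refl V) x = x :=
  QCoh.ringMap_id _ x

lemma app_res (φ : M ⟶ N) {V W : X.Opens} (h : W ≤ V) (x : Γ(M, V)) :
    φ.app W (res M h x) = res N h (φ.app V x) :=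
  QCoh.map_app_comm φ (homOfLE h) x

lemma isUnit_resR {V W : X.Opens} (h : W ≤ V) (a : Γ(X, V)) (ha : W ≤ X.basicOpen a) :
    IsUnit (resR h a) := by
  rw [show resR h a = resR ha (resR (X.basicOpen_le a) a) from (resR_resR _ _ _).symm]
  exact (RingedSpace.isUnit_res_basicOpen X.toRingedSpace a).map _

lemma eq_of_locally {V : X.Opens} (x y : Γ(M, V))
    (h : ∀ p ∈ V, ∃ (W : X.Opens) (i : W ≤ V), p ∈ W ∧ res M i x = res M i y) : x = y :=
  sub_eq_zero.mp (QCoh.eq_zero_of_locally V _ fun p hp => by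
    obtain ⟨W, i, hpW, hW⟩ := h p hp
    exact ⟨W, homOfLE i, hpW, show res M i (x - y) = 0 by rw [map_sub, hW, sub_self]⟩)

lemma existsUnique_glue {V : X.Opens} {ι : Type u} (W : ι → X.Opens) (hW : ∀ i, W i ≤ V)
    (hcov : ∀ p ∈ V, ∃ i, p ∈ W i) (sf : ∀ i, Γ(M, W i))
    (hc : ∀ i j, res M inf_le_left (sf i) = res M (inf_le_right : W i ⊓ W j ≤ W j) (sf j)) :
    ∃! s : Γ(M, V), ∀ i, res M (hW i) s = sf i :=
  TopCat.Sheaf.existsUnique_gluing' ⟨M.presheaf, M.isSheaf⟩ W V (fun i => homOfLE (hW i))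
    (fun p hp => Opens.mem_iSup.mpr (hcov p hp)) sf hc

variable (f : X ⟶ S) [IsAffineHom f]

lemma exists_basic {V : X.Opens} {p : X} (hp : p ∈ V) (U₀ : S.Opens) (hp₀ : f p ∈ U₀) :
    ∃ (U : S.affineOpens) (a : Γ(X, f ⁻¹ᵁ U.1)),
      U.1 ≤ U₀ ∧ p ∈ X.basicOpen a ∧ X.basicOpen a ≤ V := by
  obtain ⟨_, ⟨U, hU, rfl⟩, hpU, hU₀⟩ := S.isBasis_affineOpens.exists_subset_of_mem_open hp₀ U₀.isOpen
  obtain ⟨a, ha, hpa⟩ := (hU.preimage f).exists_basicOpen_le ⟨p, hp⟩ hpU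
  exact ⟨⟨U, hU⟩, a, hU₀, hpa, ha⟩

lemma exists_data (hM : Coh.IsQCoh M) {V : X.Opens} (U : S.affineOpens) (a : Γ(X, f ⁻¹ᵁ U.1))
    (h : X.basicOpen a ≤ V) (x : Γ(M, V)) :
    ∃ (n : ℕ) (t : Γ(M, f ⁻¹ᵁ U.1)),
      res M (X.basicOpen_le a) t = resR (X.basicOpen_le a) a ^ n • res M h x :=
  QCoh.exists_pow_smul_eq_map hM (U.2.preimage f) a _

lemma exists_pow_smul_eq_zero (hM : Coh.IsQCoh M) (U : S.affineOpens) (a : Γ(X, f ⁻¹ᵁ U.1))
    (t : Γ(M, f ⁻¹ᵁ U.1)) (ht : res M (X.basicOpen_le a) t = 0) : ∃ n : ℕ, a ^ n • t = 0 :=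
  QCoh.exists_pow_smul_eq_zero hM (U.2.preimage f) a t ht

end Groth.Agent.AModX
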