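import Groth.Prelude.Def_RelSpec2
import Groth.Agent.AModX.Res

/-!
Direct image along an affine morphism is fully faithful on quasi-coherent modules.
-/

universe u

open CategoryTheory CategoryTheory.Limits AlgebraicGeometry TopologicalSpace Opposite

namespace Groth.Agent.AModX

variable {X S : Scheme.{u}} {f : X ⟶ S} [IsAffineHom f] {F G : X.Modules}
  (ψ : (AMod.dirImg f).obj F ⟶ (AMod.dirImg f).obj G)

/-- The components of a map of direct images. -/
noncomputable def comp (U : S.Opens) : Γ(F, f ⁻¹ᵁ U) →+ Γ(G, f ⁻¹ᵁ U) :=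
  (ψ.val.app (op U)).hom.toAddMonoidHom

lemma comp_smul (U : S.Opens) (r : Γ(X, f ⁻¹ᵁ U)) (x : Γ(F, f ⁻¹ᵁ U)) :
    comp ψ U (r • x) = r • comp ψ U x :=
  (ψ.val.app (op U)).hom.map_smul' r x

lemma comp_res {U U' : S.Opens} (h : U' ≤ U) (x : Γ(F, f ⁻¹ᵁ U)) :
    comp ψ U' (res F (f.preimage_mono h) x) = res G (f.preimage_mono h) (comp ψ U x) :=
  PresheafOfModules.naturality_apply ψ.val (homOfLE h).op x

/-- `y` is the image of `x` under the map on the open `V` of `X`. -/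
def Rel (V : X.Opens) (x : Γ(F, V)) (y : Γ(G, V)) : Prop :=
  ∀ (U : S.affineOpens) (a : Γ(X, f ⁻¹ᵁ U.1)) (h : X.basicOpen a ≤ V) (n : ℕ)
    (t : Γ(F, f ⁻¹ᵁ U.1)), res F (X.basicOpen_le a) t = resR (X.basicOpen_le a) a ^ n • res F h x →
      res G (X.basicOpen_le a) (comp ψ U.1 t) = resR (X.basicOpen_le a) a ^ n • res G h y

variable (hF : Coh.IsQCoh F)
include hF

lemma compat {V : X.Opens} (x : Γ(F, V))
    (U : S.affineOpens) (a : Γ(X, f ⁻¹ᵁ U.1)) (h : X.basicOpen a ≤ V) (n : ℕ)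
    (t : Γ(F, f ⁻¹ᵁ U.1)) (ht : res F (X.basicOpen_le a) t = resR (X.basicOpen_le a) a ^ n • res F h x)
    (U' : S.affineOpens) (a' : Γ(X, f ⁻¹ᵁ U'.1)) (h' : X.basicOpen a' ≤ V) (n' : ℕ)
    (t' : Γ(F, f ⁻¹ᵁ U'.1))
    (ht' : res F (X.basicOpen_le a') t' = resR (X.basicOpen_le a') a' ^ n' • res F h' x)
    {W : X.Opens} (hW : W ≤ X.basicOpen a) (hW' : W ≤ X.basicOpen a') :
    resR (hW'.trans (X.basicOpen_le a')) a' ^ n' • res G (hW.trans (X.basicOpen_le a)) (comp ψ U.1 t) =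
      resR (hW.trans (X.basicOpen_le a)) a ^ n • res G (hW'.trans (X.basicOpen_le a')) (comp ψ U'.1 t') := by
  refine eq_of_locally _ _ fun p hp => ?_
  have hpU : p ∈ f ⁻¹ᵁ U.1 := (X.basicOpen_le a) (hW hp)
  have hpU' : p ∈ f ⁻¹ᵁ U'.1 := (X.basicOpen_le a') (hW' hp)
  obtain ⟨U'', a'', hle, hp'', hW''⟩ := exists_basic f hp (U.1 ⊓ U'.1) ⟨hpU, hpU'⟩
  have hU : U''.1 ≤ U.1 := hle.trans inf_le_left
  have hU' : U''.1 ≤ U'.1 := hle.trans inf_le_right
  refine ⟨X.basicOpen a'', hW'', hp'', ?_⟩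
  set s : Γ(F, f ⁻¹ᵁ U''.1) :=
    resR (f.preimage_mono hU') a' ^ n' • res F (f.preimage_mono hU) t -
      resR (f.preimage_mono hU) a ^ n • res F (f.preimage_mono hU') t'
  have e : res F (hW''.trans (hW.trans (X.basicOpen_le a))) t =
      resR (hW''.trans (hW.trans (X.basicOpen_le a))) a ^ n • res F (hW''.trans (hW.trans h)) x := by
    have := congrArg (res F (hW''.trans hW)) ht
    simpa only [res_smul, res_res, map_pow, resR_resR] using this
  have e' : res F (hW''.trans (hW'.trans (X.basicOpen_le a'))) t' =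
      resR (hW''.trans (hW'.trans (X.basicOpen_le a'))) a' ^ n' • res F (hW''.trans (hW'.trans h')) x := by
    have := congrArg (res F (hW''.trans hW')) ht'
    simpa only [res_smul, res_res, map_pow, resR_resR] using this
  have hs : res F (X.basicOpen_le a'') s = 0 := by
    simp only [s, map_sub, res_smul, res_res, map_pow, resR_resR]
    rw [e, e', smul_comm, sub_self]
  obtain ⟨k, hk⟩ := exists_pow_smul_eq_zero f hF U'' a'' s hs
  have h2 : res G (X.basicOpen_le a'') (comp ψ U''.1 (a'' ^ k • s)) = 0 := by rw [hk, map_zero, map_zero]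
  simp only [s, comp_smul, map_sub, res_smul, map_pow, res_res, resR_resR] at h2
  rw [((isUnit_resR (X.basicOpen_le a'') a'' le_rfl).pow k).smul_eq_zero, sub_eq_zero] at h2
  rw [comp_res ψ hU, comp_res ψ hU'] at h2
  simpa only [res_smul, res_res, map_pow, resR_resR] using h2

lemma rel_unique {V : X.Opens} {x : Γ(F, V)} {y y' : Γ(G, V)} (hy : Rel ψ V x y)
    (hy' : Rel ψ V x y') : y = y' := by
  refine eq_of_locally y y' fun p hp => ?_
  obtain ⟨U, a, -, hpa, ha⟩ := exists_basic f hp ⊤ trivial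
  obtain ⟨n, t, ht⟩ := exists_data f hF U a ha x
  refine ⟨X.basicOpen a, ha, hpa, ?_⟩
  exact ((isUnit_resR (X.basicOpen_le a) a le_rfl).pow n).smul_left_cancel.mp
    ((hy U a ha n t ht).symm.trans (hy' U a ha n t ht))

lemma exists_rel {V : X.Opens} (x : Γ(F, V)) : ∃ y, Rel ψ V x y := by
  classical
  have hdata : ∀ p : V, ∃ (U : S.affineOpens) (a : Γ(X, f ⁻¹ᵁ U.1)) (ha : X.basicOpen a ≤ V)
      (n : ℕ) (t : Γ(F, f ⁻¹ᵁ U.1)), p.1 ∈ X.basicOpen a ∧
        res F (X.basicOpen_le a) t = resR (X.basicOpen_le a) a ^ n • res F ha x := by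
    intro p
    obtain ⟨U, a, -, hpa, ha⟩ := exists_basic f p.2 ⊤ trivial
    obtain ⟨n, t, ht⟩ := exists_data f hF U a ha x
    exact ⟨U, a, ha, n, t, hpa, ht⟩
  choose U a ha n t hpa ht using hdata
  have hu : ∀ p, IsUnit (resR (X.basicOpen_le (a p)) (a p) ^ n p) := fun p =>
    (isUnit_resR _ _ le_rfl).pow _
  let sf : ∀ p, Γ(G, X.basicOpen (a p)) := fun p =>
    (((hu p).unit⁻¹ : Γ(X, X.basicOpen (a p))ˣ) : Γ(X, X.basicOpen (a p))) •
      res G (X.basicOpen_le (a p)) (comp ψ (U p).1 (t p))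
  have hsf : ∀ p, resR (X.basicOpen_le (a p)) (a p) ^ n p • sf p =
      res G (X.basicOpen_le (a p)) (comp ψ (U p).1 (t p)) := fun p => by
    simp only [sf, smul_smul, IsUnit.mul_val_inv, one_smul]
  have hsf' : ∀ p {W : X.Opens} (hW : W ≤ X.basicOpen (a p)),
      resR (hW.trans (X.basicOpen_le (a p))) (a p) ^ n p • res G hW (sf p) =
        res G (hW.trans (X.basicOpen_le (a p))) (comp ψ (U p).1 (t p)) := fun p W hW => by
    have := congrArg (res G hW) (hsf p)
    simpa only [res_smul, res_res, map_pow, resR_resR] using this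
  obtain ⟨y, hy, -⟩ := existsUnique_glue (M := G) (fun p : V => X.basicOpen (a p)) ha
    (fun p hp => ⟨⟨p, hp⟩, hpa ⟨p, hp⟩⟩) sf fun p q => by
    have hc := compat ψ hF x (U p) (a p) (ha p) (n p) (t p) (ht p) (U q) (a q) (ha q) (n q) (t q) (ht q)
      (W := X.basicOpen (a p) ⊓ X.basicOpen (a q)) inf_le_left inf_le_right
    rw [← hsf' p inf_le_left, ← hsf' q inf_le_right, smul_comm] at hc
    have u1 := (isUnit_resR ((inf_le_left : X.basicOpen (a p) ⊓ X.basicOpen (a q) ≤ _).trans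
      (X.basicOpen_le (a p))) (a p) inf_le_left).pow (n p)
    have u2 := (isUnit_resR ((inf_le_right : X.basicOpen (a p) ⊓ X.basicOpen (a q) ≤ _).trans
      (X.basicOpen_le (a q))) (a q) inf_le_right).pow (n q)
    exact u2.smul_left_cancel.mp (u1.smul_left_cancel.mp hc)
  refine ⟨y, fun U' a' h' n' t' ht' => eq_of_locally _ _ fun p hp => ?_⟩
  refine ⟨X.basicOpen a' ⊓ X.basicOpen (a ⟨p, h' hp⟩), inf_le_left, ⟨hp, hpa _⟩, ?_⟩
  set q : V := ⟨p, h' hp⟩
  have hc := compat ψ hF x U' a' h' n' t' ht' (U q) (a q) (ha q) (n q) (t q) (ht q)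
    (W := X.basicOpen a' ⊓ X.basicOpen (a q)) inf_le_left inf_le_right
  rw [← hsf' q inf_le_right, smul_comm] at hc
  have u2 := (isUnit_resR ((inf_le_right : X.basicOpen a' ⊓ X.basicOpen (a q) ≤ _).trans
      (X.basicOpen_le (a q))) (a q) inf_le_right).pow (n q)
  have hc' := u2.smul_left_cancel.mp hc
  rw [← hy q, res_res] at hc'
  simpa only [res_smul, res_res, map_pow, resR_resR] using hc'

omit hF

lemma rel_res {V W : X.Opens} (i : W ≤ V) {x : Γ(F, V)} {y : Γ(G, V)} (hy : Rel ψ V x y) :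
    Rel ψ W (res F i x) (res G i y) := by
  intro U a h n t ht
  rw [res_res] at ht
  rw [res_res]
  exact hy U a (h.trans i) n t ht

include hF

lemma rel_of_locally {V : X.Opens} {x : Γ(F, V)} {y : Γ(G, V)}
    (h : ∀ p ∈ V, ∃ (U : S.affineOpens) (a : Γ(X, f ⁻¹ᵁ U.1)) (ha : X.basicOpen a ≤ V) (n : ℕ)
      (t : Γ(F, f ⁻¹ᵁ U.1)), p ∈ X.basicOpen a ∧
        res F (X.basicOpen_le a) t = resR (X.basicOpen_le a) a ^ n • res F ha x ∧
        res G (X.basicOpen_le a) (comp ψ U.1 t) = resR (X.basicOpen_le a) a ^ n • res G ha y) :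
    Rel ψ V x y := by
  obtain ⟨y₀, hy₀⟩ := exists_rel ψ hF x
  suffices y = y₀ from this ▸ hy₀
  refine eq_of_locally y y₀ fun p hp => ?_
  obtain ⟨U, a, ha, n, t, hpa, ht, hty⟩ := h p hp
  exact ⟨X.basicOpen a, ha, hpa, ((isUnit_resR (X.basicOpen_le a) a le_rfl).pow n).smul_left_cancel.mp
    (hty.symm.trans (hy₀ U a ha n t ht))⟩

lemma rel_add {V : X.Opens} {x x' : Γ(F, V)} {y y' : Γ(G, V)} (hy : Rel ψ V x y)
    (hy' : Rel ψ V x' y') : Rel ψ V (x + x') (y + y') := by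
  refine rel_of_locally ψ hF fun p hp => ?_
  obtain ⟨U, a, -, hpa, ha⟩ := exists_basic f hp ⊤ trivial
  obtain ⟨n, t, ht⟩ := exists_data f hF U a ha x
  obtain ⟨n', t', ht'⟩ := exists_data f hF U a ha x'
  refine ⟨U, a, ha, n + n', a ^ n' • t + a ^ n • t', hpa, ?_, ?_⟩
  · simp only [map_add, res_smul, map_pow, ht, ht', pow_add, mul_smul, smul_add]
    rw [smul_comm]
  · simp only [map_add, comp_smul, res_smul, map_pow, hy U a ha n t ht, hy' U a ha n' t' ht',
      pow_add, mul_smul, smul_add]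
    rw [smul_comm]

lemma rel_smul {V : X.Opens} (r : Γ(X, V)) {x : Γ(F, V)} {y : Γ(G, V)} (hy : Rel ψ V x y) :
    Rel ψ V (r • x) (r • y) := by
  refine rel_of_locally ψ hF fun p hp => ?_
  obtain ⟨U, a, -, hpa, ha⟩ := exists_basic f hp ⊤ trivial
  obtain ⟨n, t, ht⟩ := exists_data f hF U a ha x
  have := (U.2.preimage f).isLocalization_basicOpen a
  obtain ⟨⟨c, _, m, rfl⟩, hc⟩ := IsLocalization.surj (Submonoid.powers a) (resR ha r)
  have hc' : resR (X.basicOpen_le a) c = resR ha r * resR (X.basicOpen_le a) a ^ m := by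
    rw [← map_pow]; exact hc.symm
  refine ⟨U, a, ha, m + n, c • t, hpa, ?_, ?_⟩
  · rw [res_smul, res_smul, hc', ht, pow_add, smul_smul, smul_smul]
    congr 1
    ring
  · rw [comp_smul, res_smul, res_smul, hc', hy U a ha n t ht, pow_add, smul_smul, smul_smul]
    congr 1
    ring

/-- The map of modules attached to a map of direct images. -/
noncomputable def ofDirImg : F ⟶ G where
  val := PresheafOfModules.homMk
    { app := fun V => AddCommGrpCat.ofHom (AddMonoidHom.mk'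
        (fun x => (exists_rel ψ hF x).choose) fun x x' => rel_unique ψ hF (exists_rel ψ hF _).choose_spec
          (rel_add ψ hF (exists_rel ψ hF x).choose_spec (exists_rel ψ hF x').choose_spec))
      naturality := fun V W i => by
        ext x
        exact rel_unique ψ hF (exists_rel ψ hF (res F i.unop.le x)).choose_spec
          (rel_res ψ i.unop.le (exists_rel ψ hF x).choose_spec) }
    fun V r x => rel_unique ψ hF (exists_rel ψ hF _).choose_spec
      (rel_smul ψ hF r (exists_rel ψ hF x).choose_spec)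

lemma ofDirImg_app (U : S.affineOpens) (x : Γ(F, f ⁻¹ᵁ U.1)) :
    (ofDirImg ψ hF).app (f ⁻¹ᵁ U.1) x = comp ψ U.1 x := by
  refine rel_unique ψ hF (exists_rel ψ hF x).choose_spec (rel_of_locally ψ hF fun p hp => ?_)
  refine ⟨U, 1, X.basicOpen_le 1, 0, x, by simpa using hp, ?_, ?_⟩
  · simp
  · simp

omit hF

lemma dirImg_hom_ext {φ φ' : (AMod.dirImg f).obj F ⟶ (AMod.dirImg f).obj G}
    (h : ∀ (U : S.affineOpens) (x : Γ(F, f ⁻¹ᵁ U.1)), comp φ U.1 x = comp φ' U.1 x) : φ = φ' := by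
  refine SheafOfModules.Hom.ext (PresheafOfModules.hom_ext fun V => ?_)
  ext x
  obtain ⟨V⟩ := V
  refine eq_of_locally (M := G) (V := f ⁻¹ᵁ V) _ _ fun p hp => ?_
  obtain ⟨_, ⟨U, hU, rfl⟩, hpU, hUV⟩ := S.isBasis_affineOpens.exists_subset_of_mem_open
    (show f p ∈ (V : Set S) from hp) V.isOpen
  refine ⟨f ⁻¹ᵁ U, f.preimage_mono hUV, hpU, ?_⟩
  show res G _ (comp φ V x) = res G _ (comp φ' V x)
  rw [← comp_res φ hUV, ← comp_res φ' hUV, h ⟨U, hU⟩]

theorem dirImg_map_bijective (hF : Coh.IsQCoh F) :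
    Function.Bijective ((AMod.dirImg f).map : (F ⟶ G) → ((AMod.dirImg f).obj F ⟶ (AMod.dirImg f).obj G)) := by
  refine ⟨fun v v' e => Scheme.Modules.hom_ext _ _ fun V => ?_, fun ψ => ⟨ofDirImg ψ hF, ?_⟩⟩
  · ext x
    have hrel : ∀ w : F ⟶ G, Rel ((AMod.dirImg f).map w) V x (w.app V x) := by
      intro w U a h n t ht
      show res G (X.basicOpen_le a) (w.app (f ⁻¹ᵁ U.1) t) = _
      rw [← app_res, ht, Scheme.Modules.Hom.app_smul, app_res]
    exact rel_unique _ hF (hrel v) (e ▸ hrel v')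
  · exact dirImg_hom_ext fun U x => ofDirImg_app ψ hF U x

end Groth.Agent.AModX
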